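import Cfsg.Agent.Lib.Helper39.U33.A3
import Cfsg.Agent.Lib.Helper39.U33.A4
import Cfsg.Agent.Lib.Helper39.U33.A5
import Cfsg.Agent.Lib.Helper39.U33.Arith
import Cfsg.Agent.Lib.Helper39.U33.M1a
import Cfsg.Agent.Lib.Helper39.U33.M1b
import Cfsg.Agent.Lib.Helper39.U33.M4
import Cfsg.Agent.Lib.Helper39.U33.M5
import Cfsg.Agent.Lib.Helper39.U33.M6
import Cfsg.Agent.Lib.Helper80.CoreDvd
import Cfsg.Agent.Lib.Helper41.PSL2Deg

/-!
# Degrees divisible by 6, 14, 21 in `PSU_3(3)`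
-/

set_option autoImplicit false
set_option linter.style.haveILetI false

namespace Cfsg.Agent.Lib.Helper39.U33

open Cfsg Cfsg.Agent.Lib.Helper15 Cfsg.Agent.Lib.Helper54

/-- the abstract theorem -/
theorem Cfg.main {G : Type*} [Group G] [Finite G] (𝒞 : Cfg G) (hG : Nat.card G = 6048)
    (hs : IsSimpleGroup G) :
    (∃ d ∈ charDegrees G, 6 ∣ d) ∧ (∃ d ∈ charDegrees G, 14 ∣ d) ∧ (∃ d ∈ charDegrees G, 21 ∣ d) := by
  classical
  haveI := Fintype.ofFinite G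
  haveI := Fintype.ofFinite (IrrCharacter G)
  choose a b c h1 hz hu using fun χ : IrrCharacter G => 𝒞.abc (irr_char χ.2)
  obtain ⟨haa, hab, hbb, hac, hbc, hcc⟩ := 𝒞.moments hG a b c h1 hz hu
  let i0 : IrrCharacter G := ⟨fun _ => 1, isIrr_one⟩
  have hdeg : ∀ χ : IrrCharacter G, charDegree (χ : G → ℂ) = a χ + 8 * b χ + 6 * c χ := by
    intro χ
    apply Cfsg.Agent.Lib.Helper41.charDegree_eq_of_one
    rw [h1 χ]
    push_cast
    ring
  have hdvd : ∀ χ : IrrCharacter G, a χ + 8 * b χ + 6 * c χ ∣ 6048 := by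
    intro χ
    rw [← hdeg, ← hG]
    exact Cfsg.Agent.Lib.Helper80.charDegree_dvd_card χ
  have htriv : ∀ χ : IrrCharacter G, b χ = 0 → c χ = 0 → χ = i0 := by
    intro χ hb hc
    apply Subtype.ext
    apply triv_of_ker hs χ.2 𝒞.hz1
    rw [hz, h1, hb, hc]
    simp
  have h0 : a i0 = 1 ∧ b i0 = 0 ∧ c i0 = 0 := by
    have h := h1 i0
    have h' : (1 : ℂ) = ((a i0 + 8 * b i0 + 6 * c i0 : ℕ) : ℂ) := by
      push_cast
      exact h
    have h'' : 1 = a i0 + 8 * b i0 + 6 * c i0 := by exact_mod_cast h'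
    omega
  obtain ⟨⟨χ6, h6⟩, ⟨χ14, h14⟩, ⟨χ21, h21⟩⟩ := arith a b c i0 hdvd htriv h0 haa hab hbb hac hbc hcc
  exact ⟨⟨_, ⟨χ6, rfl⟩, by rw [hdeg]; exact h6⟩, ⟨_, ⟨χ14, rfl⟩, by rw [hdeg]; exact h14⟩,
    ⟨_, ⟨χ21, rfl⟩, by rw [hdeg]; exact h21⟩⟩

/-- the isomorphism with the projective group -/
theorem iso_GJ : Nonempty (GJ ≃* Cfsg.PSU 3 K9 3) := by
  obtain ⟨e1⟩ := iso_SU
  obtain ⟨e2⟩ := iso_PSU
  exact ⟨e1.trans e2⟩

theorem card_GJ : Nat.card GJ = 6048 := by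
  obtain ⟨e⟩ := iso_GJ
  rw [Nat.card_congr e.toEquiv, card_PSU]

theorem simple_GJ : IsSimpleGroup GJ := by
  obtain ⟨e⟩ := iso_GJ
  haveI := simple_PSU
  exact e.isSimpleGroup

/-- the configuration in the model -/
theorem exists_cfg : Nonempty (Cfg GJ) := by
  obtain ⟨ψ, h1, h2⟩ := exists_psi
  exact ⟨{ U := UU, z := zz, u := uu, hU := card_UU, hzU := zz_mem, huU := uu_mem, hz1 := zz_ne_one,
           hz3 := zz_pow, hzz := zz_conj, huc := conj_uu, hCz := card_centralizer_zz,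
           hCu := card_centralizer_uu, hCuU := centralizer_uu_le, hzu := zz_uu, ψ := ψ, hψu := h1,
           hψz := h2 }⟩

/-- the degrees of `PSU_3(3)` -/
theorem degrees_PSU :
    (∃ d ∈ charDegrees (Cfsg.PSU 3 K9 3), 6 ∣ d) ∧ (∃ d ∈ charDegrees (Cfsg.PSU 3 K9 3), 14 ∣ d) ∧
      (∃ d ∈ charDegrees (Cfsg.PSU 3 K9 3), 21 ∣ d) := by
  obtain ⟨e⟩ := iso_GJ
  obtain ⟨𝒞⟩ := exists_cfg
  rw [← Cfsg.Agent.Lib.Helper41.charDegrees_congr e]
  haveI : Finite GJ := Nat.finite_of_card_ne_zero (by rw [card_GJ]; norm_num)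
  exact 𝒞.main card_GJ simple_GJ

end Cfsg.Agent.Lib.Helper39.U33
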